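import Groth.Agent.GrpdStrat.Thick
import Groth.Agent.S1885
import Groth.Agent.S7385
import Groth.Agent.FDescent.MaxPoint
import Groth.Agent.GrpdLib.OrbitTop
import Groth.Agent.GrpdLib.Restrict
import Mathlib.AlgebraicGeometry.Morphisms.QuasiFinite

/-!
# Invariant affine thickenings near generic orbits
-/

set_option autoImplicit false
set_option backward.isDefEq.respectTransparency false
set_option backward.isDefEq.respectTransparency.types false
set_option maxHeartbeats 1000000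
universe u
open CategoryTheory CategoryTheory.Limits AlgebraicGeometry TopologicalSpace
open Grpd

namespace Groth.Agent.GrpdStrat

variable {S : Scheme.{u}} {G : Grpd.GroupoidScheme S}

theorem restrict_t_apply (W : G.U.Opens) (hW : GrpdLib.IsInv G W) (x : (GrpdLib.restrict G W hW).R) :
    W.ι ((GrpdLib.restrict G W hW).t x) = G.t x.1 :=
  congrArg (fun f : (G.s ⁻¹ᵁ W).toScheme ⟶ G.U => f x) (GrpdLib.resT_ι G W hW)

theorem restrict_s_apply (W : G.U.Opens) (hW : GrpdLib.IsInv G W) (x : (GrpdLib.restrict G W hW).R) :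
    W.ι ((GrpdLib.restrict G W hW).s x) = G.s x.1 :=
  congrArg (fun f : (G.s ⁻¹ᵁ W).toScheme ⟶ G.U => f x) (GrpdLib.resS_ι G W)

theorem isInv_image (W : G.U.Opens) (hW : GrpdLib.IsInv G W) (Q : (GrpdLib.restrict G W hW).U.Opens)
    (hQ : (GrpdLib.restrict G W hW).s ⁻¹ᵁ Q = (GrpdLib.restrict G W hW).t ⁻¹ᵁ Q) :
    GrpdLib.IsInv G (W.ι ''ᵁ Q) := by
  refine GrpdLib.isInv_of_mem ?_
  rintro r ⟨x, hx, e⟩
  have hrW : r ∈ G.s ⁻¹ᵁ W := by
    show G.s r ∈ W
    rw [← e]; exact x.2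
  let r' : (GrpdLib.restrict G W hW).R := ⟨r, hrW⟩
  have hs : (GrpdLib.restrict G W hW).s r' = x :=
    W.ι.isOpenEmbedding.injective ((restrict_s_apply W hW r').trans e.symm)
  exact ⟨(GrpdLib.restrict G W hW).t r', (SetLike.ext_iff.1 hQ r').1 (show (GrpdLib.restrict G W hW).s r' ∈ Q from hs ▸ hx),
    restrict_t_apply W hW r'⟩

theorem exists_affine_invariant [IsFinite G.s] [LocallyOfFinitePresentation G.s] [IsFinite G.t]
    [LocallyOfFinitePresentation G.t] [QuasiSeparatedSpace G.U] (W : G.U.Opens) (hW : GrpdLib.IsInv G W)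
    (m : ℕ) (u : Fin m → G.U) (hu : ∀ i (r : G.R), G.s r = u i → ∀ x : G.U, x ⤳ G.t r → x = G.t r)
    (huW : ∀ i, u i ∈ W) :
    ∃ V : G.U.Opens, IsAffineOpen V ∧ V ≤ W ∧ (∀ i, u i ∈ V) ∧ GrpdLib.IsInv G V := by
  classical
  haveI hqs : QuasiSeparatedSpace (↑W : Scheme.{u}) := QuasiSeparatedSpace.of_isOpenEmbedding W.ι.isOpenEmbedding
  let T : Set (↑W : Scheme.{u}) := {x | ∃ i r, G.s r = u i ∧ G.t r = W.ι x}
  have hT : T.Finite := by
    have h1 : (⋃ i, G.t '' (G.s ⁻¹' {u i})).Finite :=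
      Set.finite_iUnion fun i => (G.s.finite_preimage_singleton (u i)).image _
    refine (h1.preimage W.ι.isOpenEmbedding.injective.injOn).subset ?_
    rintro x ⟨i, r, h, e⟩
    exact Set.mem_iUnion.2 ⟨i, r, h, e⟩
  let η : Fin hT.toFinset.card → (↑W : Scheme.{u}) := fun n => (hT.toFinset.equivFin.symm n).1
  have hη : ∀ n, η n ∈ T := fun n => hT.mem_toFinset.1 (hT.toFinset.equivFin.symm n).2
  have hgen : ∀ x ∈ T, ∀ y : (↑W : Scheme.{u}), y ⤳ x → y = x := by
    rintro x ⟨i, r, h, e⟩ y hy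
    refine W.ι.isOpenEmbedding.injective ?_
    have := hu i r h (W.ι y) (e ▸ hy.map W.ι.continuous)
    rw [this, e]
  obtain ⟨U, hU, -, hUa⟩ := S7385.result (↑W : Scheme.{u}) η
    (fun n => FDescent.closure_mem_irreducibleComponents (hgen _ (hη n)))
    (Subtype.val_injective.comp hT.toFinset.equivFin.symm.injective)
  let V₀ : G.U.Opens := W.ι ''ᵁ ⨆ n, U n
  have hV₀ : IsAffineOpen V₀ := hUa.image_of_isOpenImmersion W.ι
  have hV₀W : V₀ ≤ W := Scheme.Opens.ι_image_le _ _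
  have hTV₀ : ∀ i r, G.s r = u i → G.t r ∈ V₀ := by
    intro i r h
    have hrW : G.t r ∈ W := (hW.mem_iff r).1 (h ▸ huW i)
    have hx : (⟨G.t r, hrW⟩ : (↑W : Scheme.{u})) ∈ T := ⟨i, r, h, rfl⟩
    refine ⟨⟨G.t r, hrW⟩, ?_, rfl⟩
    have e : η (hT.toFinset.equivFin ⟨_, hT.mem_toFinset.2 hx⟩) = ⟨G.t r, hrW⟩ :=
      congrArg Subtype.val (hT.toFinset.equivFin.symm_apply_apply _)
    exact Opens.mem_iSup.2 ⟨_, e ▸ (hU _).2⟩
  let P : G.U.Opens := ⟨(GrpdLib.sat G (V₀ : Set G.U)ᶜ)ᶜ,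
    (G.t.isClosedMap _ ((V₀.2.isClosed_compl).preimage G.s.continuous)).isOpen_compl⟩
  have hP : GrpdLib.IsInv G P :=
    Opens.ext (Set.ext fun r => not_congr (GrpdLib.mem_sat_iff G _ r))
  have hPV : P ≤ V₀ := fun x hx => by_contra fun h => hx (GrpdLib.subset_sat G _ h)
  have huP : ∀ i, u i ∈ P := by
    rintro i ⟨r, hr, e⟩
    have := hTV₀ i (G.i r) (by rw [← Scheme.Hom.comp_apply, G.i_s]; exact e)
    rw [← Scheme.Hom.comp_apply, G.i_t] at this
    exact hr this
  let GP := GrpdLib.restrict G P hP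
  haveI : IsFinite GP.s := IsZariskiLocalAtTarget.restrict ‹IsFinite G.s› P
  haveI : LocallyOfFinitePresentation GP.s := IsZariskiLocalAtTarget.restrict ‹LocallyOfFinitePresentation G.s› P
  haveI : IsFinite GP.t := by
    rw [← GP.i_s]
    haveI : IsIso GP.i := ⟨GP.i, GrpdLib.i_i GP, GrpdLib.i_i GP⟩
    exact (MorphismProperty.cancel_left_of_respectsIso @IsFinite GP.i GP.s).2 inferInstance
  haveI : LocallyOfFinitePresentation GP.t := by
    rw [← GP.i_s]
    haveI : IsIso GP.i := ⟨GP.i, GrpdLib.i_i GP, GrpdLib.i_i GP⟩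
    exact (MorphismProperty.cancel_left_of_respectsIso @LocallyOfFinitePresentation GP.i GP.s).2 inferInstance
  let j : GP.U ⟶ Spec Γ(G.U, V₀) := G.U.homOfLE hPV ≫ hV₀.isoSpec.hom
  obtain ⟨I, hI⟩ := (PrimeSpectrum.isClosed_iff_zeroLocus_ideal _).1
    (j.opensRange.2.isClosed_compl : IsClosed ((j.opensRange : Set (Spec Γ(G.U, V₀)))ᶜ))
  obtain ⟨h, -, ha, hmem, hinv⟩ := S1885.result S GP m (fun i => ⟨u i, huP i⟩)
    (fun i r hr x hx => P.ι.isOpenEmbedding.injective (by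
      have e1 : G.s r.1 = u i := (restrict_s_apply P hP r).symm.trans (congrArg Subtype.val hr)
      rw [restrict_t_apply P hP r]
      exact hu i _ e1 _ (restrict_t_apply P hP r ▸ hx.map P.ι.continuous)))
    _ j I (fun x hx => by rw [← hI] at hx; exact hx ⟨x, rfl⟩)
    (by rw [← hI]; convert isClosed_univ; exact Set.compl_union_self _)
  exact ⟨P.ι ''ᵁ (j ⁻¹ᵁ PrimeSpectrum.basicOpen h), ha.image_of_isOpenImmersion P.ι,
    (Scheme.Opens.ι_image_le _ _).trans (hPV.trans hV₀W), fun i => ⟨⟨u i, huP i⟩, hmem i, rfl⟩,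
    isInv_image P hP _ hinv⟩

theorem exists_affine_thickening [IsFinite G.s] [LocallyOfFinitePresentation G.s] [IsFinite G.t]
    [LocallyOfFinitePresentation G.t] [QuasiSeparatedSpace G.U] {W : G.U.Opens}
    {W' : (↑W : Scheme.{u}).IdealSheafData}
    (hsupp : W'.support = ⊤) (hlfp : LocallyOfFinitePresentation W'.subschemeι)
    (φ : pullback G.s (W'.subschemeι ≫ W.ι) ≅ pullback G.t (W'.subschemeι ≫ W.ι))
    (hφ : φ.hom ≫ pullback.fst G.t (W'.subschemeι ≫ W.ι) = pullback.fst G.s (W'.subschemeι ≫ W.ι))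
    (hs : Mor2.IsFinLocFree (pullback.snd G.s (W'.subschemeι ≫ W.ι)))
    (ht : Mor2.IsFinLocFree (pullback.snd G.t (W'.subschemeι ≫ W.ι)))
    {V : G.U.Opens} (hVW : V ≤ W) (hV : GrpdLib.IsInv G V) :
    ∃ V' : (↑V : Scheme.{u}).IdealSheafData, V'.support = ⊤ ∧ LocallyOfFinitePresentation V'.subschemeι ∧
      (∃ ψ : pullback G.s (V'.subschemeι ≫ V.ι) ≅ pullback G.t (V'.subschemeι ≫ V.ι),
        ψ.hom ≫ pullback.fst G.t (V'.subschemeι ≫ V.ι) = pullback.fst G.s (V'.subschemeι ≫ V.ι)) ∧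
      Mor2.IsFinLocFree (pullback.snd G.s (V'.subschemeι ≫ V.ι)) ∧
      Mor2.IsFinLocFree (pullback.snd G.t (V'.subschemeι ≫ V.ι)) := by
  let q := G.U.homOfLE hVW
  let V' := W'.comap q
  let g : V'.subscheme ⟶ W'.subscheme := (W'.comapIso q).hom ≫ pullback.snd q W'.subschemeι
  have hsq : IsPullback V'.subschemeι g q W'.subschemeι :=
    (IsPullback.of_hasPullback q W'.subschemeι).of_iso (W'.comapIso q).symm (Iso.refl _) (Iso.refl _) (Iso.refl _)
      (by simp [V']) (by simp only [g, Iso.symm_hom, Iso.inv_hom_id_assoc, Iso.refl_hom, Category.comp_id]) (by simp) (by simp)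
  let ι' := W'.subschemeι ≫ W.ι
  have hg : g ≫ ι' = V'.subschemeι ≫ V.ι := by
    rw [← Category.assoc, ← hsq.w, Category.assoc, Scheme.homOfLE_ι]
  have hfac : ∀ {T : Scheme.{u}} (y : T ⟶ G.U) (y' : T ⟶ W'.subscheme), y' ≫ ι' = y → (∀ p, y p ∈ V) →
      ∃ l, l ≫ V'.subschemeι ≫ V.ι = y := by
    intro T y y' h hp
    let y₀ : T ⟶ (↑V : Scheme.{u}) := IsOpenImmersion.lift V.ι y (by
      rw [Scheme.Opens.range_ι]; rintro _ ⟨p, rfl⟩; exact hp p)
    have h0 : y₀ ≫ V.ι = y := IsOpenImmersion.lift_fac _ _ _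
    have hw : y₀ ≫ q = y' ≫ W'.subschemeι := by
      rw [← cancel_mono W.ι, Category.assoc, Scheme.homOfLE_ι, h0, Category.assoc]
      exact h.symm
    exact ⟨hsq.lift y₀ y' hw, by rw [← Category.assoc, hsq.lift_fst, h0]⟩
  refine ⟨V', ?_, MorphismProperty.of_isPullback hsq.flip hlfp, ?_, ?_, ?_⟩
  · refine SetLike.coe_injective (Set.eq_univ_of_forall fun x => ?_)
    show x ∈ V'.support
    rw [Scheme.IdealSheafData.support_comap, hsupp]
    trivial
  · let a := pullback.fst G.s (V'.subschemeι ≫ V.ι)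
    let b := pullback.fst G.t (V'.subschemeι ≫ V.ι)
    have hsV : ∀ p, G.s (a p) ∈ V := fun p => by
      rw [← Scheme.Hom.comp_apply, pullback.condition, ← Category.assoc, Scheme.Hom.comp_apply]
      exact ((pullback.snd G.s (V'.subschemeι ≫ V.ι) ≫ V'.subschemeι) p).2
    have htV : ∀ p, G.t (b p) ∈ V := fun p => by
      rw [← Scheme.Hom.comp_apply, pullback.condition, ← Category.assoc, Scheme.Hom.comp_apply]
      exact ((pullback.snd G.t (V'.subschemeι ≫ V.ι) ≫ V'.subschemeι) p).2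
    let a₁ : pullback G.s (V'.subschemeι ≫ V.ι) ⟶ pullback G.s ι' :=
      pullback.lift a (pullback.snd _ _ ≫ g) (by rw [Category.assoc, hg]; exact pullback.condition)
    let b₁ : pullback G.t (V'.subschemeι ≫ V.ι) ⟶ pullback G.t ι' :=
      pullback.lift b (pullback.snd _ _ ≫ g) (by rw [Category.assoc, hg]; exact pullback.condition)
    have ea : (a₁ ≫ φ.hom) ≫ pullback.fst G.t ι' = a := by
      rw [Category.assoc, hφ, pullback.lift_fst]
    have eb : (b₁ ≫ φ.inv) ≫ pullback.fst G.s ι' = b := by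
      rw [Category.assoc, ← hφ, Iso.inv_hom_id_assoc, pullback.lift_fst]
    obtain ⟨la, hla⟩ := hfac (a ≫ G.t) ((a₁ ≫ φ.hom) ≫ pullback.snd G.t ι')
      (by rw [Category.assoc, ← pullback.condition, ← Category.assoc, ea]) fun p => (hV.mem_iff _).1 (hsV p)
    obtain ⟨lb, hlb⟩ := hfac (b ≫ G.s) ((b₁ ≫ φ.inv) ≫ pullback.snd G.s ι')
      (by rw [Category.assoc, ← pullback.condition, ← Category.assoc, eb]) fun p => (hV.mem_iff _).2 (htV p)
    haveI : Mono (pullback.fst G.s (V'.subschemeι ≫ V.ι)) := inferInstance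
    refine ⟨⟨pullback.lift a la hla.symm, pullback.lift b lb hlb.symm, ?_, ?_⟩, pullback.lift_fst _ _ _⟩
    · rw [← cancel_mono (pullback.fst G.s (V'.subschemeι ≫ V.ι)), Category.assoc, pullback.lift_fst,
        pullback.lift_fst, Category.id_comp]
    · rw [← cancel_mono (pullback.fst G.t (V'.subschemeι ≫ V.ι)), Category.assoc, pullback.lift_fst,
        pullback.lift_fst, Category.id_comp]
  all_goals
    have key : ∀ (f : G.R ⟶ G.U) (R : MorphismProperty Scheme.{u}) [R.IsStableUnderBaseChange],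
        R (pullback.snd f ι') → R (pullback.snd f (V'.subschemeι ≫ V.ι)) := by
      intro f R _ h
      have h1 : IsPullback (pullback.fst f (V'.subschemeι ≫ V.ι)) (pullback.snd f (V'.subschemeι ≫ V.ι)) f
          (g ≫ ι') := by
        rw [hg]; exact IsPullback.of_hasPullback _ _
      exact R.of_isPullback (IsPullback.of_right
        (h₁₁ := pullback.lift (pullback.fst f (V'.subschemeι ≫ V.ι)) (pullback.snd f (V'.subschemeι ≫ V.ι) ≫ g)
          (by rw [h1.w]; simp only [g, Category.assoc]))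
        (by rw [pullback.lift_fst]; exact h1) (pullback.lift_snd _ _ _) (IsPullback.of_hasPullback _ _)) h
  · exact ⟨key _ _ hs.1, key _ _ hs.2.1, key _ _ hs.2.2⟩
  · exact ⟨key _ _ ht.1, key _ _ ht.2.1, key _ _ ht.2.2⟩

end Groth.Agent.GrpdStrat
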