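import Groth.Agent.S0017
import Groth.Agent.S8877
import Groth.Agent.S1178
import Groth.Agent.H1GeomRk.Unit
import Groth.Agent.FittStrat.Rank
import Groth.Agent.H23.CoverPush
import Groth.Agent.SymX.FiniteProjective
import Groth.Agent.GrpdLib.Affine
import Groth.Prelude.Def_PicLoc

/-!
# The Fitting stratification of the objects of a finite groupoid
-/

set_option autoImplicit false
universe u
open CategoryTheory CategoryTheory.Limits AlgebraicGeometry
open Grpd

namespace Groth.Agent.GrpdStrat

set_option backward.isDefEq.respectTransparency false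
set_option backward.isDefEq.respectTransparency.types false

theorem injective_presheaf_map_eqToHom (X : Scheme.{u}) (A B : X.Opens) (h : A = B) :
    Function.Injective (X.presheaf.map (eqToHom h).op) := by
  subst h
  rw [eqToHom_refl, op_id, X.presheaf.map_id]
  exact fun _ _ => id

theorem sheafIdeal_congr {X : Scheme.{u}} {M N : X.Modules} (hM : Coh.IsQCoh M) (hMt : CohB1.IsFT M)
    (hN : Coh.IsQCoh N) (hNt : CohB1.IsFT N) (e : M ≅ N) (r : ℕ) :
    Fitt.sheafIdeal M r = Fitt.sheafIdeal N r := by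
  refine Scheme.IdealSheafData.ext (funext fun U => ?_)
  rw [FittX.sheafIdeal_ideal hM hMt, FittX.sheafIdeal_ideal hN hNt]
  haveI := QCoh.finite_of_isFT hM hMt U.2
  let l : Γ(M, U.1) ≃ₗ[Γ(X, U.1)] Γ(N, U.1) :=
    { toFun := fun x => e.hom.app U.1 x
      invFun := fun x => e.inv.app U.1 x
      map_add' := fun x y => map_add _ x y
      map_smul' := fun c x => Scheme.Modules.Hom.app_smul e.hom c x
      left_inv := fun x => congrArg (fun f : M ⟶ M => f.app U.1 x) e.hom_inv_id
      right_inv := fun x => congrArg (fun f : N ⟶ N => f.app U.1 x) e.inv_hom_id }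
  exact FittX.ideal_congr l r

theorem exists_iso {S : Scheme.{u}} (G : Grpd.GroupoidScheme S) (I : G.U.IdealSheafData)
    (h : I.comap G.s = I.comap G.t) :
    ∃ φ : pullback G.s I.subschemeι ≅ pullback G.t I.subschemeι,
      φ.hom ≫ pullback.fst G.t I.subschemeι = pullback.fst G.s I.subschemeι := by
  have hh : ∀ (J : G.R.IdealSheafData) (a : J.subscheme ≅ pullback G.t I.subschemeι),
      a.hom ≫ pullback.fst _ _ = J.subschemeι → J = I.comap G.s →
      ∃ φ : pullback G.s I.subschemeι ≅ pullback G.t I.subschemeι,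
        φ.hom ≫ pullback.fst G.t I.subschemeι = pullback.fst G.s I.subschemeι := by
    rintro J a ha rfl
    refine ⟨(I.comapIso G.s).symm ≪≫ a, ?_⟩
    rw [Iso.trans_hom, Category.assoc, ha, Iso.symm_hom, Scheme.IdealSheafData.comapIso_inv_subschemeι]
  exact hh _ (I.comapIso G.t) (I.comapIso_hom_fst G.t) h.symm

theorem exists_strat {S : Scheme.{u}} (G : Grpd.GroupoidScheme S) [IsFinite G.s] [IsFinite G.t] :
    ∃ Z : ℕ → G.U.IdealSheafData, Z 0 = ⊥ ∧ Monotone Z ∧ (⋂ r, ((Z r).support : Set G.U)) = ∅ ∧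
      (∀ r, (Z r).comap G.s = (Z r).comap G.t) ∧
      (∀ r, Mor2.IsFinLocFreeOfDeg (r + 1) (pullback.snd G.s (FittStrat.pieceι (Z r) (Z (r + 1))))) ∧
      (LocallyOfFinitePresentation G.s → ∀ (r : ℕ) (U : G.U.affineOpens), ((Z r).ideal U).FG) := by
  let M : G.U.Modules := (Scheme.Modules.pushforward G.s).obj (Coh.structureModule G.R)
  have hM : Coh.IsQCoh M := QCoh.isQCoh_pushforward G.s QCoh.isQCoh_structureModule
  have hft : CohB1.IsFT M := SymX.isFT_pushforward_of_isFinite G.s QCoh.isQCoh_structureModule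
  haveI : Coh.IsQCoh (Coh.structureModule G.R) := QCoh.isQCoh_structureModule
  let Z : ℕ → G.U.IdealSheafData := fun r => Fitt.sheafIdeal M r
  have h0 : Z 0 = ⊥ := by
    refine le_bot_iff.1 fun U => ?_
    show (Fitt.sheafIdeal M 0).ideal U ≤ _
    rw [Scheme.IdealSheafData.ideal_bot, FittX.sheafIdeal_ideal hM hft]
    haveI := QCoh.finite_of_isFT hM hft U.2
    refine FittX.ideal_annihilator.trans fun a ha => ?_
    have h1 : G.s.app U.1 a = 0 := by
      have := Module.mem_annihilator.1 ha (show Γ(M, U.1) from (1 : Γ(G.R, G.s ⁻¹ᵁ U.1)))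
      exact (mul_one _).symm.trans this
    have h2 : (G.e ≫ G.s).app U.1 a = 0 := by
      rw [Scheme.Hom.comp_app, CommRingCat.comp_apply, h1, map_zero]
    rw [Scheme.Hom.congr_app G.e_s U.1, Scheme.Hom.id_app] at h2
    simp only [CommRingCat.comp_apply, CommRingCat.id_apply] at h2
    show a = 0
    exact (map_eq_zero_iff _ (injective_presheaf_map_eqToHom G.U _ _ _)).1 h2
  have hinv : ∀ r, (Z r).comap G.s = (Z r).comap G.t := by
    intro r
    obtain ⟨e⟩ := S0017.result G.s G.s G.c (pullback.snd G.s G.t) (GrpdLib.isPullback_snd_c G).flip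
      (Coh.structureModule G.R)
    obtain ⟨e'⟩ := S0017.result G.s G.t (pullback.fst G.s G.t) (pullback.snd G.s G.t)
      (IsPullback.of_hasPullback G.s G.t) (Coh.structureModule G.R)
    show (Fitt.sheafIdeal M r).comap _ = (Fitt.sheafIdeal M r).comap _
    rw [FittX.sheafIdeal_comap G.s hM hft r, FittX.sheafIdeal_comap G.t hM hft r]
    exact sheafIdeal_congr (QCoh.isQCoh_pullback G.s hM) (FittX.isFT_pullback G.s hM hft)
      (QCoh.isQCoh_pullback G.t hM) (FittX.isFT_pullback G.t hM hft)
      (e ≪≫ (Scheme.Modules.pushforward _).mapIso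
        (PicLoc.pullbackStructureIso G.c ≪≫ (PicLoc.pullbackStructureIso (pullback.fst G.s G.t)).symm) ≪≫ e'.symm) r
  refine ⟨Z, h0, fun a b h => FittStrat.sheafIdeal_mono hM hft h, ?_, hinv, fun r => ?_, fun hfp r U => ?_⟩
  · refine Set.eq_empty_of_forall_notMem fun x hx => ?_
    obtain ⟨r, hr⟩ := S8877.result G.U M hM hft x
    exact hr (Set.mem_iInter.1 hx r)
  · let g := FittStrat.pieceι (Z r) (Z (r + 1))
    show Mor2.IsFinLocFreeOfDeg (r + 1) (pullback.snd G.s g)
    have hg := (FittStrat.exists_factor_iff (Z r) (Z (r + 1)) g).1 ⟨𝟙 _, Category.id_comp _⟩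
    refine (H23.CoverPush.isCover_iff (pullback.snd G.s g)).2 ⟨inferInstance, ?_⟩
    obtain ⟨e⟩ := S0017.result G.s g (pullback.fst G.s g) (pullback.snd G.s g)
      (IsPullback.of_hasPullback G.s g) (Coh.structureModule G.R)
    let φ := e ≪≫ (Scheme.Modules.pushforward _).mapIso (PicLoc.pullbackStructureIso (pullback.fst G.s g))
    have hN : Coh.IsQCoh ((Scheme.Modules.pushforward (pullback.snd G.s g)).obj (Coh.structureModule _)) :=
      QCoh.isQCoh_pushforward _ QCoh.isQCoh_structureModule
    have hNft := SymX.isFT_pushforward_of_isFinite (pullback.snd G.s g) QCoh.isQCoh_structureModule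
    rw [FittStrat.isFinLocFreeOfRank_iff_two hN hNft (r + 1)]
    have hk : ∀ k, Fitt.sheafIdeal ((Scheme.Modules.pushforward (pullback.snd G.s g)).obj (Coh.structureModule _)) k =
        (Z k).comap g := fun k => by
      rw [FittX.sheafIdeal_comap g hM hft k]
      exact (sheafIdeal_congr (QCoh.isQCoh_pullback g hM) (FittX.isFT_pullback g hM hft) hN hNft φ k).symm
    rw [hk, hk, Nat.add_sub_cancel]
    exact ⟨fun _ => hg.1, hg.2⟩
  · haveI := hfp
    haveI : (Coh.structureModule G.R).IsQuasicoherent := QCoh.isQCoh_structureModule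
    exact FittX.isFiniteTypeIdeal ((S1178.result G.s (Coh.structureModule G.R)).1 (H1GeomRk.isFP_structureModule G.R)) r U

end Groth.Agent.GrpdStrat
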