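import Mathlib.AlgebraicGeometry.IdealSheaf.Subscheme
import Mathlib.RingTheory.Localization.AtPrime.Basic
import Mathlib.RingTheory.Nilpotent.Lemmas

/-!
# A finitely generated closed subscheme containing a generic point contains a neighbourhood
-/

set_option autoImplicit false
set_option backward.isDefEq.respectTransparency false
universe u
open CategoryTheory AlgebraicGeometry

namespace Groth.Agent.GrpdStrat

theorem exists_notMem_of_minimal {A : Type u} [CommRing A] {p : Ideal A} [p.IsPrime]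
    (hp : ∀ q : Ideal A, q.IsPrime → q ≤ p → q = p) (J : Ideal A) (hJ : J.FG) (hJp : J ≤ p) :
    ∃ g, g ∉ p ∧ ∀ q : Ideal A, q.IsPrime → g ∉ q → J ≤ q := by
  classical
  have h1 : ∀ x ∈ p, ∃ g, g ∉ p ∧ ∀ q : Ideal A, q.IsPrime → g ∉ q → x ∈ q := by
    intro x hx
    have hn : IsNilpotent (algebraMap A (Localization.AtPrime p) x) := by
      refine nilpotent_iff_mem_prime.2 fun P hP => ?_
      have hle : P.comap (algebraMap A (Localization.AtPrime p)) ≤ p := fun y hy => by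
        by_contra hyp
        exact hP.ne_top (Ideal.eq_top_of_isUnit_mem _ hy (IsLocalization.map_units _ (⟨y, hyp⟩ : p.primeCompl)))
      have e := hp _ (Ideal.IsPrime.comap _) hle
      exact Ideal.mem_comap.1 (e.symm ▸ hx : x ∈ P.comap (algebraMap A (Localization.AtPrime p)))
    obtain ⟨n, hn⟩ := hn
    rw [← map_pow, IsLocalization.map_eq_zero_iff p.primeCompl] at hn
    obtain ⟨⟨g, hg⟩, hgx⟩ := hn
    refine ⟨g, hg, fun q hq hgq => hq.mem_of_pow_mem n ((hq.mem_or_mem (?_ : g * x ^ n ∈ q)).resolve_left hgq)⟩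
    rw [hgx]; exact q.zero_mem
  obtain ⟨T, rfl⟩ := hJ
  choose g hg hg' using fun x : T => h1 x.1 (hJp (Ideal.subset_span x.2))
  refine ⟨∏ x, g x, fun h => ?_, fun q hq hq' => Ideal.span_le.2 fun x hx => hg' ⟨x, hx⟩ q hq fun h => ?_⟩
  · obtain ⟨x, -, hx⟩ := (Ideal.IsPrime.prod_mem_iff).1 h
    exact hg x hx
  · exact hq' ((Ideal.IsPrime.prod_mem_iff).2 ⟨⟨x, hx⟩, Finset.mem_univ _, h⟩)

theorem interior_sdiff_mem {X : Scheme.{u}} (I : X.IdealSheafData) (hI : ∀ U, (I.ideal U).FG) (v : X)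
    (hgen : ∀ x : X, x ⤳ v → x = v) (hv : v ∈ I.support) {C : Set X} (hC : IsClosed C) (hvC : v ∉ C) :
    v ∈ interior ((I.support : Set X) \ C) := by
  obtain ⟨U, hU, hvU, -⟩ := exists_isAffineOpen_mem_and_subset (show v ∈ (⊤ : X.Opens) from trivial)
  let p := hU.primeIdealOf ⟨v, hvU⟩
  have hpv : hU.fromSpec p = v := hU.fromSpec_primeIdealOf _
  have hsupp : ∀ q : PrimeSpectrum Γ(X, U), hU.fromSpec q ∈ I.support ↔ I.ideal ⟨U, hU⟩ ≤ q.asIdeal := fun q => by
    have hq : hU.fromSpec q ∈ U := by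
      have h : hU.fromSpec q ∈ Set.range hU.fromSpec := ⟨q, rfl⟩
      rwa [hU.range_fromSpec] at h
    rw [Scheme.IdealSheafData.mem_support_iff_of_mem (U := ⟨U, hU⟩) hq, Scheme.mem_zeroLocus_iff]
    have hb : ∀ f : Γ(X, U), hU.fromSpec q ∈ X.basicOpen f ↔ f ∉ q.asIdeal := fun f => by
      rw [← Scheme.Hom.mem_preimage, hU.fromSpec_preimage_basicOpen]
      rfl
    exact ⟨fun h f hf => by_contra fun hn => h f hf ((hb f).2 hn), fun h f hf hn => (hb f).1 hn (h hf)⟩
  obtain ⟨g, hg, hgJ⟩ := exists_notMem_of_minimal (p := p.asIdeal) (fun q hq hle => by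
      have e : hU.fromSpec (⟨q, hq⟩ : PrimeSpectrum _) = v := hgen _ (by
        rw [← hpv]
        exact ((PrimeSpectrum.le_iff_specializes ⟨q, hq⟩ p).1 hle).map hU.fromSpec.continuous)
      rw [← hpv] at e
      exact congrArg PrimeSpectrum.asIdeal (hU.fromSpec.isOpenEmbedding.injective e))
    _ (hI _) ((hsupp p).1 (hpv ▸ hv))
  show v ∈ interior ((I.support : Set X) ∩ Cᶜ)
  rw [interior_inter, hC.isOpen_compl.interior_eq]
  refine ⟨mem_interior.2 ⟨hU.fromSpec '' {q | g ∉ (show PrimeSpectrum Γ(X, U) from q).asIdeal}, ?_, ?_, ?_⟩, hvC⟩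
  · rintro _ ⟨q, hq, rfl⟩
    exact (hsupp q).2 (hgJ _ (show PrimeSpectrum Γ(X, U) from q).2 hq)
  · exact hU.fromSpec.isOpenEmbedding.isOpenMap _ (PrimeSpectrum.basicOpen g).2
  · exact ⟨p, hg, hpv⟩

end Groth.Agent.GrpdStrat
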