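import Mathlib.AlgebraicGeometry.Morphisms.ClosedImmersion
import Mathlib.AlgebraicGeometry.IdealSheaf.Functorial
import Mathlib.AlgebraicGeometry.Limits
import Groth.Agent.MorLib.IdealFG

/-!
# Ideal sheaves on a disjoint open cover glue
-/

set_option autoImplicit false
set_option backward.isDefEq.respectTransparency false

universe u

open CategoryTheory CategoryTheory.Limits AlgebraicGeometry TopologicalSpace

namespace Groth.Agent.GrpdStrat

theorem exists_idealSheaf_disjoint {X : Scheme.{u}} {ι : Type} (W : ι → X.Opens)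
    (hd : ∀ i j, ∀ x : X, x ∈ W i → x ∈ W j → i = j) (hc : iSup W = ⊤)
    (J : ∀ i, (W i : Scheme.{u}).IdealSheafData) :
    ∃ I : X.IdealSheafData, ∀ i, I.comap (W i).ι = J i := by
  let c : ι → Scheme.{u} := fun i => (J i).subscheme
  let g : (∐ c) ⟶ X := Sigma.desc fun i => (J i).subschemeι ≫ (W i).ι
  have hg : ∀ i, Sigma.ι c i ≫ g = (J i).subschemeι ≫ (W i).ι := fun i => Sigma.ι_desc _ i
  have sq : ∀ i, IsPullback (J i).subschemeι (Sigma.ι c i) (W i).ι g := by
    intro i
    refine IsOpenImmersion.isPullback (J i).subschemeι (Sigma.ι c i) (W i).ι g (hg i) ?_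
    refine TopologicalSpace.Opens.ext (Set.ext fun z => ⟨fun hz => ?_, ?_⟩)
    · obtain ⟨j, y, rfl⟩ : ∃ j y, Sigma.ι c j y = z := (sigmaOpenCover c).exists_eq z
      have hy : g (Sigma.ι c j y) = ((J j).subschemeι y).1 := by
        rw [← Scheme.Hom.comp_apply, hg]; rfl
      have hz' : g (Sigma.ι c j y) ∈ W i := by simpa using hz
      rw [hy] at hz'
      obtain rfl := hd i j _ hz' ((J j).subschemeι y).2
      exact ⟨y, rfl⟩
    · rintro ⟨y, rfl⟩
      show g (Sigma.ι c i y) ∈ (W i).ι.opensRange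
      rw [← Scheme.Hom.comp_apply, hg, Scheme.Hom.comp_apply, Scheme.Opens.opensRange_ι]
      exact ((J i).subschemeι y).2
  haveI hcl : IsClosedImmersion g := by
    refine IsZariskiLocalAtTarget.of_iSup_eq_top W hc fun i => ?_
    have h := ((isPullback_morphismRestrict g (W i)).isoPullback)
    have e : Arrow.mk (g ∣_ W i) ≅ Arrow.mk (J i).subschemeι :=
      Arrow.isoMk ((isPullback_morphismRestrict g (W i)).flip.isoIsPullback _ _ (sq i).flip) (Iso.refl _) (by simp)
    exact (MorphismProperty.arrow_mk_iso_iff @IsClosedImmersion e).2 inferInstance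
  refine ⟨g.ker, fun i => ?_⟩
  rw [← Scheme.IdealSheafData.ker_fst_of_isClosedImmersion, ← (sq i).isoPullback_inv_fst, Scheme.Hom.ker_comp_of_isIso,
    Scheme.IdealSheafData.ker_subschemeι]

/-- An ideal sheaf is determined by its restrictions to an open cover. -/
theorem eq_of_comap_cover {X : Scheme.{u}} {ι : Type} (W : ι → X.Opens) (hc : iSup W = ⊤)
    {I J : X.IdealSheafData} (h : ∀ i, I.comap (W i).ι = J.comap (W i).ι) : I = J := by
  refine Scheme.IdealSheafData.ext_of_iSup_eq_top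
    (fun U : {U : X.affineOpens // ∃ i, U.1 ≤ W i} => U.1) (top_le_iff.1 fun x _ => ?_) fun U => ?_
  · obtain ⟨i, hi⟩ := Opens.mem_iSup.1 ((hc.symm ▸ Opens.mem_top x : x ∈ iSup W))
    obtain ⟨_, ⟨U, hU, rfl⟩, hxU, hUW⟩ := X.isBasis_affineOpens.exists_subset_of_mem_open hi (W i).2
    exact Opens.mem_iSup.2 ⟨⟨⟨U, hU⟩, i, hUW⟩, hxU⟩
  · obtain ⟨U, i, hU⟩ := U
    exact MorLib.IdealFG.eq_of_comap_eq (h i) hU

end Groth.Agent.GrpdStrat
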