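import Groth.Agent.GrpdStrat.Basic
import Groth.Agent.GrpdStrat.Glue
import Groth.Agent.GrpdLib.DegDecomp
import Groth.Agent.MorLib.IdealFG2

/-!
# Invariant thickenings over which a finite groupoid is finite locally free
-/

set_option autoImplicit false
set_option backward.isDefEq.respectTransparency false
set_option maxHeartbeats 1000000
universe u
open CategoryTheory CategoryTheory.Limits AlgebraicGeometry TopologicalSpace
open Grpd

namespace Groth.Agent.GrpdStrat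

variable {S : Scheme.{u}} {G : Grpd.GroupoidScheme S}

/-- The interior of a stratum. -/
def opn (Z : ℕ → G.U.IdealSheafData) (r : ℕ) : G.U.Opens :=
  ⟨interior (((Z r).support : Set G.U) \ (Z (r + 1)).support), isOpen_interior⟩

theorem opn_le (Z : ℕ → G.U.IdealSheafData) (r : ℕ) {x : G.U} (hx : x ∈ opn Z r) :
    x ∈ (Z r).support ∧ x ∉ (Z (r + 1)).support :=
  (interior_subset (show x ∈ interior (((Z r).support : Set G.U) \ (Z (r + 1)).support) from hx) :)

theorem mem_stratum_iff (Z : ℕ → G.U.IdealSheafData) (h : ∀ r, (Z r).comap G.s = (Z r).comap G.t) (r : ℕ)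
    (a : G.R) : G.s a ∈ (Z r).support ↔ G.t a ∈ (Z r).support := by
  have e := congrArg (fun I : G.R.IdealSheafData => a ∈ I.support) (h r)
  simp only [Scheme.IdealSheafData.support_comap] at e
  exact Iff.of_eq e

theorem stratum_unique (Z : ℕ → G.U.IdealSheafData) (hm : Monotone Z) {r r' : ℕ} {x : G.U}
    (h : x ∈ (Z r).support ∧ x ∉ (Z (r + 1)).support) (h' : x ∈ (Z r').support ∧ x ∉ (Z (r' + 1)).support) :
    r = r' := by
  have key : ∀ a b, a < b → x ∈ (Z b).support → x ∈ (Z (a + 1)).support := fun a b hab hb =>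
    Scheme.IdealSheafData.support_antitone (hm hab) hb
  rcases lt_trichotomy r r' with hlt | rfl | hlt
  · exact absurd (key r r' hlt h'.1) h.2
  · rfl
  · exact absurd (key r' r hlt h.1) h'.2

theorem exists_thickening [IsFinite G.s] [IsFinite G.t] :
    ∃ (Z : ℕ → G.U.IdealSheafData) (W : G.U.Opens) (W' : (↑W : Scheme.{u}).IdealSheafData),
      G.s ⁻¹ᵁ W = G.t ⁻¹ᵁ W ∧ W'.support = ⊤ ∧
      (∀ u : G.U, u ∈ W ↔ ∀ a : G.R, G.t a = u → ∃ r, G.s a ∈ opn Z r) ∧
      (∀ u : G.U, ∃ r, u ∈ (Z r).support ∧ u ∉ (Z (r + 1)).support) ∧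
      (∃ φ : pullback G.s (W'.subschemeι ≫ W.ι) ≅ pullback G.t (W'.subschemeι ≫ W.ι),
        φ.hom ≫ pullback.fst G.t (W'.subschemeι ≫ W.ι) = pullback.fst G.s (W'.subschemeι ≫ W.ι)) ∧
      (∀ u : G.U, ∃ a : G.R, G.t a = u ∧ G.s a ∈ closure (W : Set G.U)) ∧
      Mor2.IsFinLocFree (pullback.snd G.s (W'.subschemeι ≫ W.ι)) ∧
      Mor2.IsFinLocFree (pullback.snd G.t (W'.subschemeι ≫ W.ι)) ∧
      (LocallyOfFinitePresentation G.s →
        LocallyOfFinitePresentation W'.subschemeι ∧ ∀ (r : ℕ) (U : G.U.affineOpens), ((Z r).ideal U).FG) := by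
  obtain ⟨Z, hZ0, hm, hZe, hinv, hflf, hfg⟩ := exists_strat G
  have hex : ∀ u : G.U, ∃ r, u ∈ (Z r).support ∧ u ∉ (Z (r + 1)).support := by
    classical
    intro u
    have hne : ∃ r, u ∉ (Z r).support := by
      by_contra hn
      push Not at hn
      have : u ∈ (⋂ r, ((Z r).support : Set G.U)) := Set.mem_iInter.2 hn
      rwa [hZe] at this
    have h0 : Nat.find hne ≠ 0 := fun h => Nat.find_spec hne (by rw [h, hZ0, Scheme.IdealSheafData.support_bot]; trivial)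
    refine ⟨Nat.find hne - 1, not_not.1 (Nat.find_min hne (by omega)), ?_⟩
    rw [Nat.sub_add_cancel (Nat.one_le_iff_ne_zero.2 h0)]
    exact Nat.find_spec hne
  let O : G.U.Opens := ⨆ r, opn Z r
  let Wset : Set G.U := (G.t '' (G.s ⁻¹' (O : Set G.U)ᶜ))ᶜ
  let W : G.U.Opens := ⟨Wset, ((G.t.isClosedMap _) ((O.2.isClosed_compl).preimage G.s.continuous)).isOpen_compl⟩
  have hmem : ∀ u : G.U, u ∈ W ↔ ∀ a : G.R, G.t a = u → ∃ r, G.s a ∈ opn Z r := by
    intro u
    constructor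
    · intro hu a ha
      by_contra hn
      exact hu ⟨a, fun hO => hn (Opens.mem_iSup.1 hO), ha⟩
    · rintro h ⟨a, ha, rfl⟩
      exact ha (Opens.mem_iSup.2 (h a rfl))
  -- translates of points of `W`
  have hcomp : ∀ a b : G.R, G.s a = G.t b → ∃ c : G.R, G.t c = G.t a ∧ G.s c = G.s b := by
    intro a b h
    obtain ⟨z, hz₁, hz₂⟩ := Scheme.Pullback.exists_preimage_pullback (f := G.s) (g := G.t) a b h
    refine ⟨G.c z, ?_, ?_⟩
    · rw [← Scheme.Hom.comp_apply, GrpdLib.c_t, Scheme.Hom.comp_apply, hz₁]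
    · rw [← Scheme.Hom.comp_apply, GrpdLib.c_s, Scheme.Hom.comp_apply, hz₂]
  have his : ∀ a, G.s (G.i a) = G.t a := fun a => by rw [← Scheme.Hom.comp_apply, G.i_s]
  have hit : ∀ a, G.t (G.i a) = G.s a := fun a => by rw [← Scheme.Hom.comp_apply, G.i_t]
  have hW : ∀ a : G.R, G.s a ∈ W ↔ G.t a ∈ W := by
    intro a
    simp only [hmem]
    constructor
    · intro h b hb
      obtain ⟨c, hc1, hc2⟩ := hcomp (G.i a) b (by rw [his, hb])
      obtain ⟨r, hr⟩ := h c (by rw [hc1, hit])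
      exact ⟨r, hc2 ▸ hr⟩
    · intro h b hb
      obtain ⟨c, hc1, hc2⟩ := hcomp a b (by rw [hb])
      obtain ⟨r, hr⟩ := h c hc1
      exact ⟨r, hc2 ▸ hr⟩
  have hWO : ∀ u ∈ W, ∃ r, u ∈ opn Z r := fun u hu => by
    obtain ⟨r, hr⟩ := (hmem u).1 hu (G.e u) (by rw [← Scheme.Hom.comp_apply, G.e_t]; rfl)
    exact ⟨r, by rwa [← Scheme.Hom.comp_apply, G.e_s] at hr⟩
  have hWr : ∀ (a : G.R) (r : ℕ), G.s a ∈ W → (G.s a ∈ opn Z r ↔ G.t a ∈ opn Z r) := by
    intro a r ha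
    obtain ⟨r₁, h₁⟩ := hWO _ ha
    obtain ⟨r₂, h₂⟩ := hWO _ ((hW a).1 ha)
    have e : r₁ = r₂ := stratum_unique Z hm
      ⟨(mem_stratum_iff Z hinv r₁ a).1 (opn_le Z r₁ h₁).1, fun h => (opn_le Z r₁ h₁).2 ((mem_stratum_iff Z hinv _ a).2 h)⟩
      (opn_le Z r₂ h₂)
    subst e
    exact ⟨fun h => stratum_unique Z hm (opn_le Z r h) (opn_le Z _ h₁) ▸ h₂,
      fun h => stratum_unique Z hm (opn_le Z r h) (opn_le Z _ h₂) ▸ h₁⟩
  -- the cover of `W` by its strata and the glued ideal sheaf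
  let P : ℕ → (↑W : Scheme.{u}).Opens := fun r => W.ι ⁻¹ᵁ opn Z r
  have hP : iSup P = ⊤ := top_le_iff.1 fun x _ => Opens.mem_iSup.2 (hWO x.1 x.2)
  have hPd : ∀ i j, ∀ x : (↑W : Scheme.{u}), x ∈ P i → x ∈ P j → i = j := fun i j x hi hj =>
    stratum_unique Z hm (opn_le Z i hi) (opn_le Z j hj)
  obtain ⟨W', hW'⟩ := exists_idealSheaf_disjoint P hPd hP fun r => (Z r).comap ((P r).ι ≫ W.ι)
  have hW'' : ∀ r, (W'.comap (P r).ι) = ((Z r).comap W.ι).comap (P r).ι := fun r => by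
    rw [hW' r, Scheme.IdealSheafData.comap_comp]
  let ι' : W'.subscheme ⟶ G.U := W'.subschemeι ≫ W.ι
  have hι'W : ∀ z, ι' z ∈ W := fun z => (W'.subschemeι z).2
  -- the restrictions of `ι'` to the strata
  have hfac : ∀ {T : Scheme.{u}} (g : T ⟶ G.U) (r : ℕ), (∃ g', g' ≫ ι' = g) → (∀ x, g x ∈ opn Z r) →
      (Z r).comap g = ⊥ := by
    rintro T g r ⟨g', rfl⟩ hg
    let l : T ⟶ (P r : Scheme.{u}) := IsOpenImmersion.lift (P r).ι (g' ≫ W'.subschemeι) (by
      rw [Scheme.Opens.range_ι]; rintro _ ⟨x, rfl⟩; exact hg x)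
    have hl : l ≫ (P r).ι = g' ≫ W'.subschemeι := IsOpenImmersion.lift_fac _ _ _
    have e : g' ≫ ι' = l ≫ (P r).ι ≫ W.ι := by rw [← Category.assoc l, hl, Category.assoc]
    rw [e, Scheme.IdealSheafData.comap_comp, ← hW' r, ← Scheme.IdealSheafData.comap_comp, hl,
      Scheme.IdealSheafData.comap_comp]
    have h0 : W'.comap W'.subschemeι = ⊥ := by
      rw [eq_bot_iff, ← Scheme.IdealSheafData.le_map_iff_comap_le, Scheme.IdealSheafData.map_bot,
        Scheme.IdealSheafData.ker_subschemeι]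
    rw [h0, Scheme.IdealSheafData.comap_bot]
  have hfac' : ∀ {T : Scheme.{u}} (g : T ⟶ G.U) (hg : ∀ x, g x ∈ W),
      (∀ r, (Z r).comap ((g ⁻¹ᵁ opn Z r).ι ≫ g) = ⊥) → ∃ g', g' ≫ ι' = g := by
    intro T g hg hz
    let g₀ : T ⟶ (↑W : Scheme.{u}) := IsOpenImmersion.lift W.ι g (by
      rw [Scheme.Opens.range_ι]; rintro _ ⟨x, rfl⟩; exact hg x)
    have hg₀ : g₀ ≫ W.ι = g := IsOpenImmersion.lift_fac _ _ _
    have hle : W'.comap g₀ = ⊥ := by
      refine eq_of_comap_cover (fun r => g₀ ⁻¹ᵁ P r)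
        (by rw [← Scheme.Hom.preimage_iSup, hP]; rfl) fun r => ?_
      rw [← Scheme.IdealSheafData.comap_comp, ← morphismRestrict_ι, Scheme.IdealSheafData.comap_comp,
        hW'' r, ← Scheme.IdealSheafData.comap_comp, morphismRestrict_ι, Scheme.IdealSheafData.comap_comp,
        ← Scheme.IdealSheafData.comap_comp _ g₀ W.ι, hg₀, Scheme.IdealSheafData.comap_bot,
        ← Scheme.IdealSheafData.comap_comp]
      have hop : g₀ ⁻¹ᵁ P r = g ⁻¹ᵁ opn Z r := by
        rw [← hg₀, Scheme.Hom.comp_preimage]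
      rw [← Scheme.homOfLE_ι T hop.le, Category.assoc, Scheme.IdealSheafData.comap_comp, hz r,
        Scheme.IdealSheafData.comap_bot]
    refine ⟨IsClosedImmersion.lift W'.subschemeι g₀ ?_, ?_⟩
    · rw [Scheme.IdealSheafData.ker_subschemeι, ← Scheme.IdealSheafData.map_bot g₀]
      exact Scheme.IdealSheafData.le_map_iff_comap_le.2 hle.le
    · rw [← Category.assoc, IsClosedImmersion.lift_fac, hg₀]
  -- invariance
  have htrans : ∀ {T : Scheme.{u}} (x : T ⟶ G.R), (∃ g', g' ≫ ι' = x ≫ G.s) → ∃ g', g' ≫ ι' = x ≫ G.t := by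
    intro T x hx
    have hxW : ∀ z, G.s (x z) ∈ W := fun z => by
      obtain ⟨g', hg'⟩ := hx
      rw [← Scheme.Hom.comp_apply, ← hg']; exact hι'W _
    refine hfac' _ (fun z => (hW _).1 (hxW z)) fun r => ?_
    have hmemr : ∀ z, z ∈ (x ≫ G.t) ⁻¹ᵁ opn Z r → G.s (x z) ∈ opn Z r := fun z hz => (hWr _ r (hxW z)).2 hz
    rw [← Category.assoc, Scheme.IdealSheafData.comap_comp, ← hinv r, ← Scheme.IdealSheafData.comap_comp,
      Category.assoc]
    obtain ⟨g', hg'⟩ := hx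
    exact hfac _ r ⟨_ ≫ g', by rw [Category.assoc, hg']⟩ fun z => hmemr _ z.2
  have htrans' : ∀ {T : Scheme.{u}} (x : T ⟶ G.R), (∃ g', g' ≫ ι' = x ≫ G.t) → ∃ g', g' ≫ ι' = x ≫ G.s := by
    intro T x hx
    have := htrans (x ≫ G.i) (by rwa [Category.assoc, G.i_s])
    rwa [Category.assoc, G.i_t] at this
  -- finite locally free
  have hs : Mor2.IsFinLocFree (pullback.snd G.s ι') := by
    let Q : ℕ → W'.subscheme.Opens := fun r => W'.subschemeι ⁻¹ᵁ P r
    have hQ : iSup Q = ⊤ := by simp only [Q, ← Scheme.Hom.preimage_iSup, hP]; rfl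
    have key : ∀ (R : MorphismProperty Scheme.{u}) [R.IsStableUnderBaseChange] [IsZariskiLocalAtTarget R],
        (∀ r, R (pullback.snd G.s (FittStrat.pieceι (Z r) (Z (r + 1))))) → R (pullback.snd G.s ι') := by
      intro R _ _ hR
      refine IsZariskiLocalAtTarget.of_iSup_eq_top Q hQ fun r => ?_
      have hbot : (Z r).comap ((Q r).ι ≫ ι') = ⊥ := hfac _ r ⟨_, rfl⟩ fun z => z.2
      have htop : (Z (r + 1)).comap ((Q r).ι ≫ ι') = ⊤ := by
        rw [← Scheme.IdealSheafData.support_eq_bot_iff, eq_bot_iff]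
        intro z hz
        rw [Scheme.IdealSheafData.support_comap] at hz
        exact absurd hz (opn_le Z r z.2).2
      obtain ⟨g', hg'⟩ := (FittStrat.exists_factor_iff (Z r) (Z (r + 1)) ((Q r).ι ≫ ι')).2 ⟨hbot, htop⟩
      have h1 : IsPullback ((pullback.snd G.s ι' ⁻¹ᵁ Q r).ι ≫ pullback.fst G.s ι') (pullback.snd G.s ι' ∣_ Q r) G.s
          (g' ≫ FittStrat.pieceι (Z r) (Z (r + 1))) := by
        rw [hg']
        exact (isPullback_morphismRestrict (pullback.snd G.s ι') (Q r)).flip.paste_horiz (IsPullback.of_hasPullback G.s ι')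
      exact R.of_isPullback (IsPullback.of_right
        (h₁₁ := pullback.lift ((pullback.snd G.s ι' ⁻¹ᵁ Q r).ι ≫ pullback.fst G.s ι') ((pullback.snd G.s ι' ∣_ Q r) ≫ g')
          (by rw [h1.w, Category.assoc]))
        (by rw [pullback.lift_fst]; exact h1) (pullback.lift_snd _ _ _) (IsPullback.of_hasPullback _ _)) (hR r)
    exact ⟨key _ fun r => (hflf r).1.1, key _ fun r => (hflf r).1.2.1, key _ fun r => (hflf r).1.2.2⟩
  haveI : IsIso G.i := ⟨G.i, GrpdLib.i_i G, GrpdLib.i_i G⟩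
  have ht : Mor2.IsFinLocFree (pullback.snd G.t ι') := by
    have h := (IsPullback.of_hasPullback G.t ι').paste_horiz
      (IsPullback.of_horiz_isIso (fst := G.i) (snd := G.t) (f := G.s) (g := 𝟙 G.U) ⟨by rw [Category.comp_id, G.i_s]⟩)
    rw [Category.comp_id] at h
    obtain ⟨e, he⟩ : ∃ e : pullback G.t ι' ≅ pullback G.s ι', e.hom ≫ pullback.snd G.s ι' = pullback.snd G.t ι' :=
      ⟨h.isoPullback, h.isoPullback_hom_snd⟩
    rw [← he]
    exact ⟨(MorphismProperty.cancel_left_of_respectsIso @IsFinite e.hom _).2 hs.1,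
      (MorphismProperty.cancel_left_of_respectsIso @Flat e.hom _).2 hs.2.1,
      (MorphismProperty.cancel_left_of_respectsIso @LocallyOfFinitePresentation e.hom _).2 hs.2.2⟩
  refine ⟨Z, W, W', Opens.ext (Set.ext fun a => hW a), ?_, hmem, hex, ?_, ?_, hs, ht, fun hfp => ⟨?_, hfg hfp⟩⟩
  · refine SetLike.coe_injective (Set.eq_univ_of_forall fun x => ?_)
    obtain ⟨r, hr⟩ := hWO x.1 x.2
    have hsupp : ((⟨x, hr⟩ : (P r : Scheme.{u})) ∈ (W'.comap (P r).ι).support) := by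
      rw [hW' r, Scheme.IdealSheafData.support_comap]
      exact (opn_le Z r hr).1
    rw [Scheme.IdealSheafData.support_comap] at hsupp
    exact hsupp
  · obtain ⟨g₁, h₁⟩ := htrans (pullback.fst G.s ι') ⟨_, pullback.condition.symm⟩
    obtain ⟨g₂, h₂⟩ := htrans' (pullback.fst G.t ι') ⟨_, pullback.condition.symm⟩
    haveI : Mono (pullback.fst G.s ι') := inferInstance
    haveI : Mono (pullback.fst G.t ι') := inferInstance
    refine ⟨⟨pullback.lift _ g₁ h₁.symm, pullback.lift _ g₂ h₂.symm, ?_, ?_⟩, pullback.lift_fst _ _ _⟩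
    · rw [← cancel_mono (pullback.fst G.s ι'), Category.assoc, pullback.lift_fst, pullback.lift_fst, Category.id_comp]
    · rw [← cancel_mono (pullback.fst G.t ι'), Category.assoc, pullback.lift_fst, pullback.lift_fst, Category.id_comp]
  · classical
    let C : Set G.U := G.t '' (G.s ⁻¹' closure (W : Set G.U))
    have hC : IsClosed C := G.t.isClosedMap _ (isClosed_closure.preimage G.s.continuous)
    intro u
    by_contra hu
    have hu' : u ∈ Cᶜ := fun ⟨a, ha, e⟩ => hu ⟨a, e, ha⟩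
    have hPinv : ∀ a : G.R, G.t a ∈ C → G.s a ∈ C := by
      rintro a ⟨b, hb, e⟩
      obtain ⟨c, hc1, hc2⟩ := hcomp (G.i a) b (by rw [his, e])
      exact ⟨c, by show G.s c ∈ closure _; rw [hc2]; exact hb, by rw [hc1, hit]⟩
    obtain ⟨r₀, hr₀, hmin⟩ : ∃ r, (∃ v, v ∉ C ∧ v ∉ (Z (r + 1)).support) ∧
        ∀ q < r, ¬ ∃ v, v ∉ C ∧ v ∉ (Z (q + 1)).support := by
      obtain ⟨r, -, hr⟩ := hex u
      have hne : ∃ r, ∃ v, v ∉ C ∧ v ∉ (Z (r + 1)).support := ⟨r, u, hu', hr⟩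
      exact ⟨Nat.find hne, Nat.find_spec hne, fun q hq => Nat.find_min hne hq⟩
    obtain ⟨v, hvC, hv⟩ := hr₀
    have hopen : IsOpen (Cᶜ ∩ ((Z (r₀ + 1)).support : Set G.U)ᶜ) :=
      hC.isOpen_compl.inter (Z (r₀ + 1)).support.isClosed.isOpen_compl
    have hsub : Cᶜ ∩ ((Z (r₀ + 1)).support : Set G.U)ᶜ ⊆ (opn Z r₀ : Set G.U) := by
      refine interior_maximal (fun x hx => ⟨?_, hx.2⟩) hopen
      rcases Nat.eq_zero_or_pos r₀ with h | h
      · rw [h, hZ0, Scheme.IdealSheafData.support_bot]; trivial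
      · by_contra hn
        exact hmin (r₀ - 1) (by omega) ⟨x, hx.1, by rwa [Nat.sub_add_cancel h]⟩
    have hvW : v ∈ W := by
      refine (hmem v).2 fun a ha => ⟨r₀, hsub ⟨?_, ?_⟩⟩
      · intro hc
        apply hvC
        have := hPinv (G.i a) (by rw [hit]; exact hc)
        rwa [his, ha] at this
      · intro hc
        exact hv (ha ▸ (mem_stratum_iff Z hinv _ a).1 hc)
    refine hvC ⟨G.e v, ?_, by rw [← Scheme.Hom.comp_apply, G.e_t]; rfl⟩
    show G.s (G.e v) ∈ closure _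
    rw [← Scheme.Hom.comp_apply, G.e_s]
    exact subset_closure hvW
  · refine MorLib.IdealFG.lfp_subschemeι fun U => ?_
    refine MorLib.IdealFG.fg_of_cover W' U fun x _ => ?_
    obtain ⟨r, hr⟩ := hWO x.1 x.2
    obtain ⟨O, hO, hxO, hOP⟩ := exists_isAffineOpen_mem_and_subset (U := P r) (show x ∈ P r from hr)
    refine ⟨⟨O, hO⟩, hxO, ?_⟩
    rw [MorLib.IdealFG.eq_of_comap_eq (hW'' r) (U := ⟨O, hO⟩) hOP, Scheme.IdealSheafData.ideal_comap_of_isOpenImmersion]
    have h2 := (hfg hfp r ⟨W.ι ''ᵁ O, hO.image_of_isOpenImmersion _⟩).map (W.ι.appIso O).hom.hom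
    convert! h2 using 1
    exact Ideal.comap_symm (W.ι.appIso O).commRingCatIsoToRingEquiv

end Groth.Agent.GrpdStrat
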